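import Cfsg.Agent.H113.S8.CovBAbs
import Cfsg.Agent.H494.TwoB.P1
import Cfsg.Agent.H606.OreM.Vals
import Cfsg.Agent.H875.M23.TraceChar
import Cfsg.Agent.H253.TwoComm.Base
import Cfsg.Agent.H704.S8.Defs3

/-!
# The cover 2.B in the proof of S4908 (helper113)

`exists_char` : the group `2.B` has a faithful irreducible character of degree `96256`; `cover` : the row.
-/

set_option autoImplicit false
set_option maxRecDepth 100000

namespace Cfsg.Agent.H113.S8

open Cfsg Cfsg.Agent Cfsg.Agent.H777.Ore Cfsg.Agent.H844.Ore Cfsg.Agent.H480.Ore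
open Cfsg.Agent.H630.Baby (Mon)
open Cfsg.Agent.BpSpor.MBigModel (MG zz)
open Cfsg.Agent.H820.Par (QQ eta chart)
open Cfsg.Agent.MonsterU.Lam2 (IsType)
open Cfsg.Agent.H658.TwoB (exists_u ta_of_type)
open Cfsg.Agent.H819.TypeTwo (type_leechU)
open Cfsg.Agent.Characters Cfsg.Agent.Characters.Core
open Cfsg.Agent.H494.TwoB Cfsg.Agent.H51.Mult Cfsg.Agent.H6.QO
open Cfsg.Agent.H715.Mon.Grp (SThree)
open Subgroup (centralizer mem_centralizer_singleton_iff center)

universe u v

/-- an involution with trace `n` is the identity -/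
theorem eq_one_of_trace {n : ℕ} (f : (Fin n → ℂ) →ₗ[ℂ] (Fin n → ℂ)) (h : f * f = 1)
    (ht : LinearMap.trace ℂ (Fin n → ℂ) f = n) : f = 1 := by
  have h1 : IsIdempotentElem ((2 : ℂ)⁻¹ • (1 - f)) := by
    show ((2 : ℂ)⁻¹ • (1 - f)) * ((2 : ℂ)⁻¹ • (1 - f)) = (2 : ℂ)⁻¹ • (1 - f)
    rw [smul_mul_smul_comm, show (1 - f) * (1 - f) = (2 : ℂ) • (1 - f) by
      rw [mul_sub, sub_mul, sub_mul, h, one_mul, mul_one, one_mul, two_smul]; abel, smul_smul]
    norm_num
  have h2 := LinearMap.IsProj.trace ((LinearMap.isProj_range_iff_isIdempotentElem _).2 h1)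
  have h3 : LinearMap.trace ℂ (Fin n → ℂ) ((2 : ℂ)⁻¹ • (1 - f)) = 0 := by
    rw [map_smul, map_sub, ht, LinearMap.trace_one, Module.finrank_fin_fun, sub_self, smul_zero]
  rw [h3] at h2
  have h4 : Module.finrank ℂ (LinearMap.range ((2 : ℂ)⁻¹ • (1 - f))) = 0 := by exact_mod_cast h2.symm
  have h5 : (2 : ℂ)⁻¹ • (1 - f) = 0 := by
    rw [← LinearMap.range_eq_bot]
    exact Submodule.finrank_eq_zero.1 h4
  have h6 : 1 - f = 0 := (smul_eq_zero.1 h5).resolve_left (by norm_num)
  exact (sub_eq_zero.1 h6).symm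

/-- the value at `2A` -/
theorem value_ta (χ : IrrCharacter MG) (hd : charDegree (χ : MG → ℂ) = 196883) {t : MG} (ht : LThreeB.Row.TA t) :
    (χ : MG → ℂ) t = 4371 := by
  obtain ⟨a, b, c, e, h1, h2, h3⟩ := H606.OreM.values χ ht
  rw [hd] at h1
  have hc : c = 0 := by omega
  have he : e = 0 := by omega
  have hb : b ≤ 1 := by omega
  subst hc he
  rcases Nat.le_one_iff_eq_zero_or_eq_one.1 hb with rfl | rfl
  · exfalso
    have ha : a = 196883 := by omega
    subst ha
    obtain ⟨n, ρ, hρ, hρχ⟩ := id χ.2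
    have hdeg : charDegree (χ : MG → ℂ) = n := by
      unfold charDegree
      rw [← hρχ]
      simp
    have hn : n = 196883 := hdeg.symm.trans hd
    have hirr : IsIrrCharacter MG (Representation.character (ρ : Representation ℂ MG (Fin n → ℂ))) := by
      rw [hρχ]; exact χ.2
    have ht2 : t * t = 1 := ta_sq ht
    have hρt : ρ t = 1 := by
      refine eq_one_of_trace (ρ t) (by rw [← map_mul, ht2, map_one]) ?_
      have h4 : LinearMap.trace ℂ (Fin n → ℂ) (ρ t) = (χ : MG → ℂ) t := by rw [← hρχ]; rfl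
      rw [h4, h2, hn]
      norm_num
    refine ta_ne ht (SmallSimple.DihedralNormalizerSimple.ker_eq_bot ρ hirr ?_ t hρt)
    intro h5
    have h6 : (Representation.character (ρ : Representation ℂ MG (Fin n → ℂ))) 1 = 1 := by rw [h5]; rfl
    rw [Representation.char_one, Module.finrank_fin_fun, hn] at h6
    norm_num at h6
  · have ha : a = 299 := by omega
    subst ha
    rw [h2]
    norm_num

/-- **The character.** -/
theorem exists_char (h3 : SThree.{0}) : ∃ (v : Mon) (π : LL v →* Spor.BabyMonster), PCE π ∧ Nat.card π.ker = 2 ∧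
    (∀ x ∈ center (LL v), x = 1 ∨ x = zu v) ∧
    ∃ χ : IrrCharacter (LL v), charDegree (χ : LL v → ℂ) = 96256 ∧ (χ : LL v → ℂ) (zu v) ≠ (χ : LL v → ℂ) 1 := by
  have hfM : Finite Mon := MThirteen.Row.finite
  have hB := H570.Ore.RowB.isoB
  obtain ⟨eB⟩ := hB
  have := H570.Ore.RowB.simple
  obtain ⟨u, hA, h2, hp, ⟨e⟩⟩ := exists_model
  obtain ⟨v, hv, ev⟩ := exists_u
  have hv2 : IsType 2 (eta v) := by rw [ev]; exact type_leechU
  have h1 : IsConj u v := (show IsConj _ u from hA).symm.trans (ta_of_type hv hv2)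
  obtain ⟨s, hs⟩ := isConj_iff.1 h1
  let φ := conjLL hs
  have hpu : PCE (e.toMonoidHom.comp (QuotientGroup.mk' (center (LL u)))) := pce_center hp e
  let σ : LL v →* Spor.BabyMonster := (e.toMonoidHom.comp (QuotientGroup.mk' (center (LL u)))).comp φ.symm.toMonoidHom
  have hpσ : PCE σ := H253.TC.pce_shrink hpu φ.symm
  have hker0 : ∀ x : LL v, σ x = 1 ↔ x = 1 ∨ x = zu v := by
    intro x
    have k1 : σ x = 1 ↔ e (QuotientGroup.mk (φ.symm x)) = 1 := Iff.rfl
    rw [k1, ker_cases hA h2 e]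
    constructor
    · rintro (h | h)
      · exact Or.inl (φ.symm.injective (by rw [h, map_one]))
      · right
        have : x = φ (zu u) := by rw [← h]; exact (φ.apply_symm_apply x).symm
        rw [this]
        exact conjLL_zu hs
    · rintro (h | h)
      · left; rw [h, map_one]
      · right
        apply φ.injective
        rw [φ.apply_symm_apply, h]
        exact (conjLL_zu hs).symm
  let π : LL v →* BabyM.Inst.M.G := eB.symm.toMonoidHom.comp σ
  have hpπ : PCE π := hpσ.congr eB.symm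
  have hker : ∀ x : LL v, π x = 1 ↔ x = 1 ∨ x = zu v := by
    intro x
    rw [← hker0]
    show eB.symm (σ x) = 1 ↔ _
    rw [map_eq_one_iff eB.symm eB.symm.injective]
  have hvA : LThreeB.Row.TA v := ta_of_type hv hv2
  have hzv : zu v ≠ 1 := fun h => ta_ne hvA (congrArg Subtype.val h)
  have hcard : Nat.card π.ker = 2 := by
    rw [Nat.card_eq_two_iff]
    refine ⟨⟨1, map_one π⟩, ⟨zu v, (hker _).2 (Or.inr rfl)⟩, fun h => hzv (congrArg Subtype.val h).symm, ?_⟩
    rw [Set.eq_univ_iff_forall]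
    rintro ⟨x, hx⟩
    rcases (hker x).1 hx with rfl | rfl
    · exact Or.inl rfl
    · exact Or.inr rfl
  have hkk : π.ker = σ.ker := by
    ext x
    rw [MonoidHom.mem_ker, MonoidHom.mem_ker, hker, hker0]
  have hdiv : ∀ χ : IrrCharacter (LL v), (∃ z ∈ π.ker, (χ : LL v → ℂ) z ≠ (χ : LL v → ℂ) 1) →
      2 ^ 11 ∣ charDegree (χ : LL v → ℂ) := by
    rintro χ ⟨z, hz, hne⟩
    rcases (hker z).1 hz with rfl | rfl
    · exact absurd rfl hne
    · exact H630.TwoB.DivChart.div11_irr chart hv hv2 χ.2 hne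
  have hd : charDegree (H875.M23.TraceChar.chi : MG → ℂ) = 196883 := by
    have h4 := Blocks.Knorr.charDegree_eq H875.M23.TraceChar.chi_irr
    rw [H875.M23.TraceChar.chi_one] at h4
    exact_mod_cast h4.symm
  obtain ⟨χ, hχ1, hχ2⟩ := exists_faithful (H570.Ore.RowB.dt h3) hpπ.surj hpπ.cen hcard hdiv
    (t := zu v) ((hker _).2 (Or.inr rfl)) (φ := fun h : LL v => H875.M23.TraceChar.chi (h : MG))
    (isCharacter_comp (centralizer ({v} : Set Mon)).subtype (isIrr_isCharacter H875.M23.TraceChar.chi_irr))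
    (by show H875.M23.TraceChar.chi 1 = _; exact H875.M23.TraceChar.chi_one)
    (value_ta ⟨H875.M23.TraceChar.chi, H875.M23.TraceChar.chi_irr⟩ hd hvA)
  refine ⟨v, σ, hpσ, by rw [← hkk]; exact hcard, ?_, χ, hχ1, hχ2⟩
  intro x hx
  rw [← hker0]
  have h5 : φ.symm x ∈ center (LL u) := by
    rw [Subgroup.mem_center_iff] at hx ⊢
    intro y
    apply φ.injective
    rw [map_mul, map_mul, φ.apply_symm_apply]
    exact hx (φ y)
  show e (QuotientGroup.mk (φ.symm x)) = 1
  rw [map_eq_one_iff e e.injective, QuotientGroup.eq_one_iff]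
  exact h5

/-- the degrees of `B` -/
theorem deg_not_mem (h3 : SThree.{0}) {X : Type v} [Group X] (hX : Spor.IsoB X) (k : ℕ) :
    96256 * 2 ^ k ∉ charDegrees X := by
  rintro ⟨χ, hχ⟩
  obtain ⟨f⟩ := hX
  obtain ⟨eB⟩ := H570.Ore.RowB.isoB
  have := H570.Ore.RowB.simple
  let g : BabyM.Inst.M.G ≃* X := eB.trans f.symm
  refine deg_ne (H570.Ore.RowB.dt h3) ⟨(χ : X → ℂ) ∘ g.toMonoidHom, isIrr_comp g.toMonoidHom g.surjective χ.2⟩ k ?_
  rw [← hχ]
  show charDegree ((χ : X → ℂ) ∘ g.toMonoidHom) = charDegree (χ : X → ℂ)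
  unfold charDegree
  rw [Function.comp_apply, map_one]

/-- **The row COVER of the Baby Monster.** -/
theorem cover (h3 : SThree.{0}) {X : Type v} [Group X] (hX : Spor.IsoB X) {D : Set ℕ} (hD : H704.S8.Deg 1 X D) :
    H704.S8.Cover.{u} D X := by
  have hfM : Finite Mon := MThirteen.Row.finite
  have hDX : D = charDegrees X := by
    rcases hD with h | ⟨h, -⟩
    · exact h
    · norm_num at h
  intro N _ _ V _ r hr hV hVc hperf hiso
  obtain ⟨f⟩ := hX
  obtain ⟨e⟩ := hiso
  let τ : N →* Spor.BabyMonster := (e.trans f).toMonoidHom.comp (QuotientGroup.mk' V)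
  have hkerτ : ∀ x : N, τ x = 1 ↔ x ∈ V := by
    intro x
    show (e.trans f) (QuotientGroup.mk x) = 1 ↔ _
    rw [map_eq_one_iff (e.trans f) (e.trans f).injective, QuotientGroup.eq_one_iff]
  have hkV : τ.ker = V := by
    ext x
    rw [MonoidHom.mem_ker, hkerτ]
  have hτ : PCE τ := ⟨(e.trans f).surjective.comp (QuotientGroup.mk'_surjective V), by rw [hkV]; exact hVc, hperf⟩
  have hc2 : Nat.card (Multiplicative (ZMod 2)) = 2 := by rw [Nat.card_congr Multiplicative.toAdd, Nat.card_zmod]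
  have hr2 : r = 2 := by
    have h4 := H990.TC.card_ker_dvd Cfsg.Agent.S2058.result hτ
    rw [hkV, hV, hc2] at h4
    exact (Nat.prime_dvd_prime_iff_eq hr Nat.prime_two).1 h4
  obtain ⟨v, σ, hσ, hσ2, hcen, χ, hχ1, hχ2⟩ := exists_char h3
  obtain ⟨θ, hθ⟩ := H990.TC.exists_surj_of_card Cfsg.Agent.S2058.result hσ (by rw [hσ2, hc2]) hτ
  have hfB : Finite Spor.BabyMonster := Finite.of_surjective τ hτ.surj
  have hcard : Nat.card (LL v) = Nat.card N := by
    rw [H113.QS.card_eq_mul hσ.surj, H113.QS.card_eq_mul hτ.surj, hσ2, hkV, hV, hr2]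
  have hbij : Function.Bijective θ := (Nat.bijective_iff_surjective_and_card θ).2 ⟨hθ, hcard⟩
  let E : LL v ≃* N := MulEquiv.ofBijective θ hbij
  obtain ⟨w, hw, hw1⟩ : ∃ w ∈ V, w ≠ 1 := by
    by_contra hcon
    push Not at hcon
    have h4 : V = ⊥ := (Subgroup.eq_bot_iff_forall V).2 hcon
    rw [h4, Subgroup.card_bot, hr2] at hV
    norm_num at hV
  have hEw : E.symm w = zu v := by
    refine (hcen (E.symm w) ?_).resolve_left fun h => hw1 ?_
    · rw [Subgroup.mem_center_iff]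
      intro y
      apply E.injective
      rw [map_mul, map_mul, E.apply_symm_apply]
      exact (Subgroup.mem_center_iff.1 (hVc hw)) (E y)
    · rw [← E.apply_symm_apply w, h, map_one]
  refine ⟨(χ : LL v → ℂ) ∘ E.symm.toMonoidHom, 96256, isIrr_comp E.symm.toMonoidHom E.symm.surjective χ.2,
    ⟨w, hw, ?_⟩, ?_, fun i => ?_⟩
  · show (χ : LL v → ℂ) (E.symm w) ≠ (χ : LL v → ℂ) (E.symm 1)
    rw [hEw, map_one]
    exact hχ2
  · show (χ : LL v → ℂ) (E.symm 1) = _
    rw [map_one, Blocks.Knorr.charDegree_eq χ.2, hχ1]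
  · rw [hr2, hDX]
    refine ⟨deg_not_mem h3 ⟨f⟩ i, ?_⟩
    have h4 : 2 * (96256 * 2 ^ i) = 96256 * 2 ^ (i + 1) := by ring
    rw [h4]
    exact deg_not_mem h3 ⟨f⟩ (i + 1)

end Cfsg.Agent.H113.S8
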