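import Cfsg.Agent.H113.QS.TwoB.Main
import Cfsg.Agent.H630.TwoB.Div

/-!
# The faithful character of degree 96256 of 2.B, abstract part (helper113, S4908)

`deg_ne` : `96256 · 2 ^ k` is not a degree of `B`; `exists_faithful` : a character of a cover `2.B` of degree `196883` with
value `4371` at the central involution has a faithful constituent of degree `96256`.
-/

set_option autoImplicit false
set_option linter.unusedSectionVars false

namespace Cfsg.Agent.H113.S8

open Cfsg Cfsg.Agent.Characters Subgroup Cfsg.Agent.H113.QS.TwoB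
open Cfsg.Agent.Characters.Core Cfsg.Agent.H570.Ore.Abs

universe u v

variable {L : Type u} [Group L] [Finite L] {B : Type v} [Group B] [Finite B] [IsSimpleGroup B] {π : L →* B} {Z : B}

theorem deg_ne (D : Dt B Z) (χ : IrrCharacter B) (k : ℕ) : charDegree (χ : B → ℂ) ≠ 96256 * 2 ^ k := by
  intro h
  have h31 := res31B D χ
  have hdvd : charDegree (χ : B → ℂ) ∣ NB := by rw [← D.card]; exact H511.Ore.charDegree_dvd χ
  have h19 : charDegree (χ : B → ℂ) % 19 = 0 ∨ charDegree (χ : B → ℂ) % 19 = 1 ∨ charDegree (χ : B → ℂ) % 19 = 18 := by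
    obtain ⟨x, hx, hc⟩ := D.x19
    have h1 := H511.Ore.res_of_has D.nonab D.card (c := ⟨19, 2, 18, 1, [(0, 0), (1, 1), (18, -1)], 0, false⟩)
      ⟨by norm_num, x, hx, hc.trans (by norm_num)⟩ (by decide +kernel) χ
    simp only [List.any_cons, List.any_nil, Bool.or_false, Bool.or_eq_true, Nat.beq_eq] at h1
    exact h1
  rw [h] at h31 hdvd h19
  have hk : k ≤ 30 := by
    by_contra hk
    have h1 : 2 ^ 42 ∣ 96256 * 2 ^ k := by
      have h2 : 2 ^ 31 ∣ 2 ^ k := pow_dvd_pow 2 (by omega)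
      have h3 : 96256 * 2 ^ k = 2 ^ 11 * (47 * 2 ^ k) := by ring
      rw [h3, show (2 : ℕ) ^ 42 = 2 ^ 11 * 2 ^ 31 by norm_num]
      exact Nat.mul_dvd_mul_left _ (h2.mul_left 47)
    have h4 := h1.trans hdvd
    revert h4
    unfold NB
    norm_num
  clear hdvd h
  revert h31 h19
  interval_cases k <;> decide

theorem exists_faithful (D : Dt B Z) (hs : Function.Surjective π) (hc : π.ker ≤ center L) (h2 : Nat.card π.ker = 2)
    (hdiv : ∀ χ : IrrCharacter L, (∃ z ∈ π.ker, (χ : L → ℂ) z ≠ (χ : L → ℂ) 1) → 2 ^ 11 ∣ charDegree (χ : L → ℂ))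
    {t : L} (ht : t ∈ π.ker) {φ : L → ℂ} (hφ : IsCharacter L φ) (h1 : φ 1 = 196883) (h3 : φ t = 4371) :
    ∃ χ : IrrCharacter L, charDegree (χ : L → ℂ) = 96256 ∧ (χ : L → ℂ) t ≠ (χ : L → ℂ) 1 := by
  classical
  have := finite_irr (G := L)
  have := Fintype.ofFinite (IrrCharacter L)
  obtain ⟨m, hm⟩ := exists_nat_comb hφ
  have htc : ∀ g : L, t * g = g * t := fun g => (Subgroup.mem_center_iff.1 (hc ht) g).symm
  have htt : t * t = 1 := by
    have h4 : (⟨t, ht⟩ : π.ker) ^ 2 = 1 := by rw [← h2]; exact pow_card_eq_one'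
    have h5 := congrArg Subtype.val h4
    rw [pow_two] at h5
    exact h5
  have key : ∀ χ : IrrCharacter L, ∃ s : ℕ, (χ : L → ℂ) 1 - (χ : L → ℂ) t = s ∧
      ((χ : L → ℂ) t ≠ (χ : L → ℂ) 1 → s = 2 * charDegree (χ : L → ℂ)) := by
    intro χ
    have hd : (χ : L → ℂ) 1 = (charDegree (χ : L → ℂ) : ℂ) := Blocks.Knorr.charDegree_eq χ.2
    rcases H630.TwoB.Div.central_pm χ.2 htc htt with h | h
    · have h4 := h 1
      rw [mul_one] at h4
      exact ⟨0, by rw [h4]; simp, fun h5 => absurd h4 h5⟩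
    · have h4 := h 1
      rw [mul_one] at h4
      exact ⟨2 * charDegree (χ : L → ℂ), by rw [h4, hd]; push_cast; ring, fun _ => rfl⟩
  choose s hs1 hs2 using key
  have hsum : ∑ χ : IrrCharacter L, m χ * s χ = 192512 := by
    have h4 : ((∑ χ : IrrCharacter L, m χ * s χ : ℕ) : ℂ) = 192512 := by
      have h5 : φ 1 - φ t = 192512 := by rw [h1, h3]; norm_num
      rw [hm, Finset.sum_apply, Finset.sum_apply, ← Finset.sum_sub_distrib] at h5
      rw [← h5]
      push_cast
      refine Finset.sum_congr rfl fun χ _ => ?_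
      rw [Pi.smul_apply, Pi.smul_apply, nsmul_eq_mul, nsmul_eq_mul, ← mul_sub, hs1]
    exact_mod_cast h4
  obtain ⟨χ, hχm, hχt⟩ : ∃ χ : IrrCharacter L, m χ ≠ 0 ∧ (χ : L → ℂ) t ≠ (χ : L → ℂ) 1 := by
    by_contra hcon
    push Not at hcon
    have h4 : ∑ χ : IrrCharacter L, m χ * s χ = 0 := by
      refine Finset.sum_eq_zero fun χ _ => ?_
      by_cases h : m χ = 0
      · rw [h, zero_mul]
      · have h5 := hs1 χ
        rw [hcon χ h, sub_self] at h5
        have h6 : s χ = 0 := by exact_mod_cast h5.symm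
        rw [h6, mul_zero]
    omega
  refine ⟨χ, ?_, hχt⟩
  have hle : m χ * s χ ≤ 192512 := by
    rw [← hsum]
    exact Finset.single_le_sum (f := fun χ => m χ * s χ) (fun _ _ => Nat.zero_le _) (Finset.mem_univ χ)
  have hle2 : 2 * charDegree (χ : L → ℂ) ≤ 192512 := by
    rw [← hs2 χ hχt]
    exact (Nat.le_mul_of_pos_left _ (Nat.pos_of_ne_zero hχm)).trans hle
  have h47 := res47 D hs hc h2 χ
  have h23 := res23 D hs hc h2 χ
  have h0 : charDegree (χ : L → ℂ) ≠ 0 := by
    intro h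
    have h5 : (χ : L → ℂ) 1 = (charDegree (χ : L → ℂ) : ℂ) := Blocks.Knorr.charDegree_eq χ.2
    rw [h] at h5
    exact isIrr_apply_one_ne_zero χ.2 (by rw [h5]; simp)
  obtain ⟨k, hk⟩ := hdiv χ ⟨t, ht, hχt⟩
  rw [hk] at h47 h23 hle2 h0 ⊢
  have hk47 : k ≤ 47 := by omega
  clear hk
  revert h47 h23 h0
  interval_cases k <;> decide

end Cfsg.Agent.H113.S8
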